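import Mathlib
import Cfsg.Agent.Lib.ClassSizes.NonAdjacent
import Cfsg.Agent.Lib.ClassSizes.CopTools
import Cfsg.Agent.Lib.Cores.Basic
import Cfsg.Agent.Lib.PLocal.Thompson
import Cfsg.Agent.Lib.Frobenius.Basic

/-!
# The two largest class sizes are coprime

If the two largest class sizes `m > n > 1` are coprime then `G/Z(G)` is a Frobenius group with
abelian point stabilizer and kernel.  The argument is elementary: products of two classes of coprime
size are single classes, which yields an abelian normal subgroup `A` of order dividing `m` containing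
(up to central factors) every element whose class size is coprime to `m`, and an orbit count on `A`
shows that all elements of prime-power order for the primes of `n` have class size `1` or `m`.
-/

set_option autoImplicit false

namespace Cfsg.Agent.Lib.TwoLargest

open Subgroup
open Cfsg.Agent.Lib.ClassSizes.Basic Cfsg.Agent.Lib.ClassSizes.CopTools
open Cfsg.Agent.Lib.ClassSizes.NonAdjacent (exists_mul_of_coprime_index)

variable {G : Type*} [Group G] [Finite G]

omit [Finite G] in
theorem ncard_class (x : G) : {k : G | IsConj x k}.ncard = idx x := by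
  have hset : {k : G | IsConj x k} = (ConjClasses.mk x).carrier := by
    ext k
    rw [ConjClasses.mem_carrier_iff_mk_eq, ConjClasses.mk_eq_mk_iff_isConj, Set.mem_setOf_eq, isConj_comm]
  rw [hset, ← Nat.card_coe_set_eq, ← ConjAct.orbit_eq_carrier_conjClasses]
  have : MulAction.stabilizer (ConjAct G) x = centralizer {x} :=
    ConjAct.stabilizer_eq_centralizer x
  show _ = (centralizer ({x} : Set G)).index
  rw [Subgroup.index, ← this]
  exact Nat.card_congr (MulAction.orbitEquivQuotientStabilizer (ConjAct G) x)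

/-- A set closed under right multiplication by `L` has cardinality divisible by `|L|`. -/
theorem card_dvd_of_mul_mem (L : Subgroup G) (T : Set G) (h : ∀ t ∈ T, ∀ l ∈ L, t * l ∈ T) :
    Nat.card L ∣ T.ncard := by
  have hpre : QuotientGroup.mk ⁻¹' (QuotientGroup.mk '' T : Set (G ⧸ L)) = T := by
    refine Set.Subset.antisymm (fun t ht => ?_) (Set.subset_preimage_image _ _)
    obtain ⟨t₀, ht₀, he⟩ := ht
    simpa using h t₀ ht₀ _ (QuotientGroup.eq.mp he)
  rw [← hpre, ← Nat.card_coe_set_eq, QuotientGroup.card_preimage_mk]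
  exact dvd_mul_right _ _

theorem relIndex_dvd_index_of_normal' (C L : Subgroup G) [L.Normal] : C.relIndex L ∣ C.index := by
  have h1 : C.relIndex L * Nat.card (C ⊓ L : Subgroup G) = Nat.card L := by
    rw [← Nat.card_congr (subgroupOfEquivOfLe (inf_le_right : C ⊓ L ≤ L)).toEquiv, inf_subgroupOf_right]
    exact index_mul_card _
  have h2 : C.relIndex (C ⊔ L) * Nat.card C = Nat.card (C ⊔ L : Subgroup G) := by
    rw [← Nat.card_congr (subgroupOfEquivOfLe (le_sup_left : C ≤ C ⊔ L)).toEquiv]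
    exact index_mul_card _
  have h3 : Nat.card (C ⊔ L : Subgroup G) * Nat.card (C ⊓ L : Subgroup G) = Nat.card C * Nat.card L :=
    PLocal.card_sup_mul_card_inf (by rw [normalizer_eq_top_iff.mpr ‹L.Normal›]; exact le_top)
  have h4 : C.relIndex L = C.relIndex (C ⊔ L) := by
    refine Nat.eq_of_mul_eq_mul_right (Nat.mul_pos (Nat.card_pos (α := C)) (Nat.card_pos (α := (C ⊓ L : Subgroup G)))) ?_
    rw [mul_left_comm, h1, ← mul_assoc, h2, h3]
  rw [h4]
  exact relIndex_dvd_index_of_le le_sup_left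

theorem index_inf_of_coprime {A B : Subgroup G} (h : A.index.Coprime B.index) :
    (A ⊓ B).index = A.index * B.index :=
  le_antisymm index_inf_le (Nat.le_of_dvd (Nat.pos_of_ne_zero index_ne_zero_of_finite)
    (h.mul_dvd_of_dvd_of_dvd (index_dvd_of_le inf_le_left) (index_dvd_of_le inf_le_right)))

omit [Finite G] in
/-- If the centralisers of `u` and `v` have coprime indices, any product of conjugates is conjugate
to `u * v`. -/
theorem isConj_mul [Finite G] {u v u' v' : G} (h : (idx u).Coprime (idx v)) (hu : IsConj u u')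
    (hv : IsConj v v') : IsConj (u * v) (u' * v') := by
  obtain ⟨g₁, rfl⟩ := isConj_iff.mp hu
  obtain ⟨g₂, rfl⟩ := isConj_iff.mp hv
  obtain ⟨a, ha, b, hb, hab⟩ := exists_mul_of_coprime_index h (g₁⁻¹ * g₂)
  refine isConj_iff.mpr ⟨g₁ * a, ?_⟩
  have ha' : a * u * a⁻¹ = u := mul_inv_eq_iff_eq_mul.mpr (mem_cen.mp ha).symm
  have hb' : b * v * b⁻¹ = v := mul_inv_eq_iff_eq_mul.mpr (mem_cen.mp hb).symm
  have hg : g₂ = g₁ * (a * b) := by rw [← hab]; group
  rw [hg]
  calc g₁ * a * (u * v) * (g₁ * a)⁻¹ = g₁ * (a * u * a⁻¹) * (a * v * a⁻¹) * g₁⁻¹ := by group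
    _ = g₁ * u * (a * (b * v * b⁻¹) * a⁻¹) * g₁⁻¹ := by rw [ha', hb']
    _ = _ := by group

theorem eq_one_of_pow_of_dvd {c : G} {d m : ℕ} (hd : c ^ d = 1) (hm : orderOf c ∣ m)
    (hcop : d.Coprime m) : c = 1 := by
  have h1 := Nat.dvd_gcd (orderOf_dvd_of_pow_eq_one hd) hm
  rw [hcop.gcd_eq_one] at h1
  exact orderOf_eq_one_iff.mp (Nat.dvd_one.mp h1)

/-- The hypotheses. -/
structure Setup (G : Type*) [Group G] (m n : ℕ) : Prop where
  hn : 1 < n
  hmn : n < m
  hcop : m.Coprime n
  split : ∀ g : G, idx g ≤ n ∨ idx g = m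

variable {m n : ℕ} (S : Setup G m n)

omit [Finite G] in
include S in
theorem Setup.le_m (g : G) : idx g ≤ m := by
  rcases S.split g with h | h
  · exact h.trans S.hmn.le
  · exact h.le

include S in
/-- The abelian normal subgroup attached to an element of largest class size. -/
theorem exists_abelian_normal {y : G} (hy : idx y = m) :
    ∃ A : Subgroup G, A.Normal ∧ IsMulCommutative A ∧ Nat.card A ∣ m ∧
      ∀ u : G, (idx u).Coprime m → A ≤ cen u ∧ cen (u ^ idx u) = cen u ∧
        (∀ g : G, u⁻¹ * (g * u * g⁻¹) ∈ A) ∧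
        ∃ l ∈ A, ∃ z ∈ center G, u ^ idx u = z * l ∧ cen l = cen u := by
  classical
  set C₂ : Set G := {k | IsConj y k} with hC₂
  let L : Subgroup G :=
    { carrier := {c | ∀ k : G, c * k ∈ C₂ ↔ k ∈ C₂}
      one_mem' := fun k => by rw [one_mul]
      mul_mem' := fun {a b} ha hb k => by rw [mul_assoc, ha, hb]
      inv_mem' := fun {a} ha k => by rw [← ha (a⁻¹ * k), mul_inv_cancel_left] }
  have hinv : ∀ g k : G, g * k * g⁻¹ ∈ C₂ ↔ k ∈ C₂ := fun g k =>
    ⟨fun h => IsConj.trans h (isConj_iff.mpr ⟨g⁻¹, by group⟩),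
      fun h => IsConj.trans h (isConj_iff.mpr ⟨g, rfl⟩)⟩
  haveI hLn : L.Normal := ⟨fun c hc g k => by
    rw [show g * c * g⁻¹ * k = g * (c * (g⁻¹ * k * g)) * g⁻¹ by group, hinv, hc]
    have := hinv g (g⁻¹ * k * g)
    rwa [show g * (g⁻¹ * k * g) * g⁻¹ = k by group, iff_comm] at this⟩
  have hLm : Nat.card L ∣ m := by
    have h1 := card_dvd_of_mul_mem L ((fun k => k⁻¹) '' C₂) ?_
    · rwa [Set.ncard_image_of_injective _ inv_injective, ncard_class, hy] at h1
    · rintro _ ⟨k, hk, rfl⟩ l hl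
      exact ⟨l⁻¹ * k, ((L.inv_mem hl) k).mpr hk, by simp⟩
  have hLu : ∀ u : G, (idx u).Coprime m → L ≤ cen u := by
    intro u hu
    rw [← relIndex_eq_one]
    have h1 := relIndex_dvd_index_of_normal' (cen u) L
    have h2 : (cen u).relIndex L ∣ Nat.card L := index_dvd_card _
    have h3 := Nat.dvd_gcd h1 (h2.trans hLm)
    rw [show (cen u).index = idx u from rfl, hu.gcd_eq_one] at h3
    exact Nat.dvd_one.mp h3
  have hmem : ∀ u : G, (idx u).Coprime m → ∀ g : G, u⁻¹ * (g * u * g⁻¹) ∈ L := by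
    intro u hu g
    have hcop : (idx u).Coprime (idx y) := by rw [hy]; exact hu
    have hsub : ∀ v : G, IsConj u v → (fun k => v * k) '' C₂ = {k | IsConj (u * y) k} := by
      intro v hv
      refine Set.eq_of_subset_of_ncard_le ?_ ?_
      · rintro _ ⟨k, hk, rfl⟩
        exact isConj_mul hcop hv hk
      · rw [Set.ncard_image_of_injective _ (mul_right_injective v), ncard_class, ncard_class, hy]
        exact S.le_m _
    intro k
    have hg : IsConj u (g * u * g⁻¹) := isConj_iff.mpr ⟨g, rfl⟩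
    have he : (fun k => u * k) '' C₂ = (fun k => g * u * g⁻¹ * k) '' C₂ :=
      (hsub u (IsConj.refl u)).trans (hsub _ hg).symm
    constructor
    · intro hk
      have : g * u * g⁻¹ * k ∈ (fun k => g * u * g⁻¹ * k) '' C₂ := by
        rw [← he]; exact ⟨_, hk, by group⟩
      obtain ⟨k', hk', hkk⟩ := this
      rwa [← mul_left_cancel hkk]
    · intro hk
      have : g * u * g⁻¹ * k ∈ (fun k => u * k) '' C₂ := by
        rw [he]; exact ⟨_, hk, rfl⟩
      obtain ⟨k', hk', hkk⟩ := this
      have : u⁻¹ * (g * u * g⁻¹) * k = k' := by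
        rw [mul_assoc, ← hkk, inv_mul_cancel_left]
      rwa [this]
  set A : Subgroup G := (center L).map L.subtype with hA
  haveI hAn : A.Normal := Cores.normal_map_subtype L (center L)
  haveI hAc : IsMulCommutative A := ⟨⟨by
    rintro ⟨_, a, ha, rfl⟩ ⟨_, b, -, rfl⟩
    exact Subtype.ext (congrArg Subtype.val (mem_center_iff.mp ha b)).symm⟩⟩
  have hAm : Nat.card A ∣ m := (card_dvd_of_le (map_subtype_le _)).trans hLm
  have hAu : ∀ u : G, (idx u).Coprime m → A ≤ cen u := fun u hu => (map_subtype_le _).trans (hLu u hu)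
  have hmemA : ∀ u : G, (idx u).Coprime m → ∀ g : G, u⁻¹ * (g * u * g⁻¹) ∈ A := by
    intro u hu g
    have hu' : (idx (g * u * g⁻¹)).Coprime m := by
      rw [← ncard_class, show {k : G | IsConj (g * u * g⁻¹) k} = {k | IsConj u k} from Set.ext fun k =>
        ⟨fun h => IsConj.trans (isConj_iff.mpr ⟨g, rfl⟩) h,
          fun h => IsConj.trans (isConj_iff.mpr ⟨g⁻¹, by group⟩) h⟩, ncard_class]
      exact hu
    refine ⟨⟨_, hmem u hu g⟩, mem_center_iff.mpr fun w => Subtype.ext ?_, rfl⟩
    have h1 : Commute (w : G) u := (mem_cen.mp (hLu u hu w.2)).symm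
    have h2 : Commute (w : G) (g * u * g⁻¹) := (mem_cen.mp (hLu _ hu' w.2)).symm
    exact (h1.inv_right.mul_right h2).eq
  have hcenpow : ∀ u : G, (idx u).Coprime m → cen (u ^ idx u) = cen u := by
    intro u hu
    refine le_antisymm (fun g hg => mem_cen.mpr ?_) (cen_le_of_mem_zpowers (npow_mem_zpowers u _))
    have hc := hmemA u hu g
    have h1 : Commute u (u⁻¹ * (g * u * g⁻¹)) := mem_cen.mp (hAu u hu hc)
    have h2 : (g * u * g⁻¹) ^ idx u = u ^ idx u := by
      rw [conj_pow, mul_inv_eq_iff_eq_mul]; exact (mem_cen.mp hg).symm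
    rw [show g * u * g⁻¹ = u * (u⁻¹ * (g * u * g⁻¹)) by group, h1.mul_pow] at h2
    have h3 : u⁻¹ * (g * u * g⁻¹) = 1 := by
      refine eq_one_of_pow_of_dvd (mul_eq_left.mp h2) ?_ hu
      rw [← orderOf_mk (u⁻¹ * (g * u * g⁻¹)) hc]
      exact (_root_.orderOf_dvd_natCard _).trans hAm
    rw [inv_mul_eq_one] at h3
    calc u * g = g * u * g⁻¹ * g := by rw [← h3]
      _ = g * u := by group
  refine ⟨A, hAn, hAc, hAm, fun u hu => ⟨hAu u hu, hcenpow u hu, hmemA u hu, ?_⟩⟩
  have := Fintype.ofFinite (G ⧸ cen u)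
  let φ : G ⧸ cen u → A := fun q => ⟨u⁻¹ * (q.out * u * q.out⁻¹), hmemA u hu _⟩
  open scoped IsMulCommutative in
  let l : A := ∏ q, φ q
  have hz : u ^ idx u * (l : G) ∈ center G := by
    rw [mem_center_iff]
    intro g
    let c : A := ⟨u⁻¹ * (g * u * g⁻¹), hmemA u hu g⟩
    let cg : A →* A := MonoidHom.mk' (fun a => ⟨g * a * g⁻¹, hAn.conj_mem _ a.2 g⟩)
      (fun a b => Subtype.ext (by simp [mul_assoc]))
    have hcu : ∀ a : A, Commute u (a : G) := fun a => mem_cen.mp (hAu u hu a.2)
    have hq : ∀ q, c * cg (φ q) = φ (g • q) := by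
      intro q
      have hout : ∃ w ∈ cen u, (g • q).out = g * q.out * w := by
        obtain ⟨w, hw⟩ := QuotientGroup.mk_out_eq_mul (cen u) (g * q.out)
        refine ⟨w, w.2, ?_⟩
        rw [← hw, show ((g * q.out : G) : G ⧸ cen u) = g • (q.out : G ⧸ cen u) from rfl,
          QuotientGroup.out_eq']
      obtain ⟨w, hw, hwe⟩ := hout
      apply Subtype.ext
      show u⁻¹ * (g * u * g⁻¹) * (g * (u⁻¹ * (q.out * u * q.out⁻¹)) * g⁻¹) =
        u⁻¹ * ((g • q).out * u * (g • q).out⁻¹)
      rw [hwe, show g * q.out * w * u * (g * q.out * w)⁻¹ = g * q.out * (w * u * w⁻¹) * (g * q.out)⁻¹ by group,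
        show w * u * w⁻¹ = u from mul_inv_eq_iff_eq_mul.mpr (mem_cen.mp hw).symm]
      group
    open scoped IsMulCommutative in
    have hprod : c ^ idx u * cg l = l := by
      show c ^ idx u * cg (∏ q, φ q) = ∏ q, φ q
      rw [map_prod, show idx u = Fintype.card (G ⧸ cen u) by
          show Subgroup.index _ = _; rw [Subgroup.index, Nat.card_eq_fintype_card],
        ← Finset.card_univ, ← Finset.prod_const, ← Finset.prod_mul_distrib]
      exact Fintype.prod_equiv (MulAction.toPerm g) _ _ hq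
    have h1 : (g * u * g⁻¹) ^ idx u * (g * (l : G) * g⁻¹) = u ^ idx u * (l : G) := by
      have h2 : ((c : G)) ^ idx u * (g * (l : G) * g⁻¹) = (l : G) := congrArg Subtype.val hprod
      rw [show g * u * g⁻¹ = u * (c : G) by show _ = u * (u⁻¹ * (g * u * g⁻¹)); group,
        (hcu c).mul_pow, mul_assoc, h2]
    rw [conj_pow] at h1
    calc g * (u ^ idx u * (l : G)) = g * u ^ idx u * g⁻¹ * (g * (l : G) * g⁻¹) * g := by group
      _ = _ := by rw [h1]
  refine ⟨(l : G)⁻¹, A.inv_mem l.2, _, hz, by rw [mul_inv_cancel_right], ?_⟩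
  have h1 : cen ((l : G)⁻¹) = cen (u ^ idx u) := by
    conv_lhs => rw [← cen_mul_center (x := (l : G)⁻¹) hz]
    congr 2
    rw [← mem_center_iff.mp hz (l : G)⁻¹ |>.symm, mul_inv_cancel_right]
  rw [h1, hcenpow u hu]

end Cfsg.Agent.Lib.TwoLargest
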