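import Cfsg.Agent.Lib.TwoLargest.Basic

/-!
# The two largest class sizes are coprime: main argument
-/

set_option autoImplicit false

namespace Cfsg.Agent.Lib.TwoLargest

open Subgroup
open Cfsg.Agent.Lib.ClassSizes.Basic Cfsg.Agent.Lib.ClassSizes.CopTools
open Cfsg.Agent.Lib.ClassSizes.NonAdjacent (exists_mul_of_coprime_index)
open scoped Pointwise

variable {G : Type*} [Group G] [Finite G] {m n : ℕ} (S : Setup G m n)

/-- An element of order prime to `k` outside of a normal subgroup `X` of index `k` cannot exist. -/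
theorem mem_of_coprime_index {X : Subgroup G} [X.Normal] {w : G} (h : (orderOf w).Coprime X.index) :
    w ∈ X := by
  rw [← QuotientGroup.eq_one_iff, ← orderOf_eq_one_iff]
  have h1 := Nat.dvd_gcd (orderOf_map_dvd (QuotientGroup.mk' X) w)
    (_root_.orderOf_dvd_natCard (QuotientGroup.mk' X w))
  rw [← index_eq_card, h.gcd_eq_one] at h1
  exact Nat.dvd_one.mp h1

include S in
/-- An element of order prime to `m` and class size prime to `m` is central. -/
theorem central_of_coprime {y : G} (hy : idx y = m) {w : G} (hw : (orderOf w).Coprime m)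
    (hd : (idx w).Coprime m) : w ∈ center G := by
  obtain ⟨A, -, -, hAm, hA⟩ := exists_abelian_normal S hy
  obtain ⟨hAw, -, hconj, -⟩ := hA w hd
  rw [mem_center_iff]
  intro g
  have hc := hconj g
  have h1 : Commute w (w⁻¹ * (g * w * g⁻¹)) := mem_cen.mp (hAw hc)
  have h2 : (g * w * g⁻¹) ^ orderOf w = 1 := by
    rw [conj_pow, pow_orderOf_eq_one, mul_one, mul_inv_cancel]
  rw [show g * w * g⁻¹ = w * (w⁻¹ * (g * w * g⁻¹)) by group, h1.mul_pow, pow_orderOf_eq_one,
    one_mul] at h2
  have h3 : w⁻¹ * (g * w * g⁻¹) = 1 := eq_one_of_pow_of_dvd h2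
    (by rw [← orderOf_mk (w⁻¹ * (g * w * g⁻¹)) hc]; exact (_root_.orderOf_dvd_natCard _).trans hAm) hw
  rw [inv_mul_eq_one, eq_mul_inv_iff_mul_eq] at h3
  exact h3.symm

theorem exists_pel_order {p : ℕ} (hp : p.Prime) {w : G} (hw : IsPEl p w) {k : ℕ} (hk : ¬ p ∣ k) :
    (orderOf w).Coprime k :=
  hw.coprime hp (hp.coprime_iff_not_dvd.mpr hk)

theorem eq_of_le_of_index_le' {H K : Subgroup G} (h : H ≤ K) (hi : H.index ≤ K.index) : H = K := by
  refine le_antisymm h (relIndex_eq_one.mp ?_)
  have h1 := relIndex_mul_index h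
  have h2 : 0 < K.index := Nat.pos_of_ne_zero index_ne_zero_of_finite
  have h3 : 0 < H.relIndex K := Nat.pos_of_ne_zero index_ne_zero_of_finite
  nlinarith

omit [Finite G] in
theorem cen_le_cen_of_le_commute {u w : G} (h : cen u ≤ cen w) : Commute w u :=
  mem_cen.mp (h (self_mem_cen u))

include S in
theorem main {x y : G} (hx : idx x = n) (hy : idx y = m) :
    IsMulCommutative (cen x) ∧ IsMulCommutative (cen y) ∧
    Cfsg.IsFrobeniusComplement ((cen y).map (QuotientGroup.mk' (center G))) ∧
    Cfsg.frobeniusKernel ((cen y).map (QuotientGroup.mk' (center G))) =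
      ((cen x).map (QuotientGroup.mk' (center G)) : Set (G ⧸ center G)) := by
  classical
  have hn1 := S.hn
  have hmn := S.hmn
  have hm0 : 0 < m := by omega
  have hnm : ¬ n ∣ m := fun h => by
    have := Nat.eq_one_of_dvd_coprimes S.hcop h dvd_rfl
    omega
  have hmn' : ¬ m ∣ n := fun h => absurd (Nat.le_of_dvd (by omega) h) (by omega)
  obtain ⟨A, hAn, hAc, hAm, hA⟩ := exists_abelian_normal S hy
  haveI := hAn
  haveI := hAc
  have hxm : (idx x).Coprime m := by rw [hx]; exact S.hcop.symm
  obtain ⟨-, -, -, a, haA, -, -, -, hax⟩ := hA x hxm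
  have hia : idx a = n := by show (cen a).index = n; rw [hax]; exact hx
  have hordA : ∀ u ∈ A, orderOf u ∣ m := fun u hu => by
    rw [← orderOf_mk u hu]; exact (_root_.orderOf_dvd_natCard _).trans hAm
  set X := cen x with hXdef
  have hXi : X.index = n := hx
  have hcX : center G ≤ X := center_le_cen x
  have hax' : ∀ w, w ∈ X ↔ w ∈ cen a := fun w => by rw [hax]
  have hpos : ∀ g : G, 0 < idx g := fun g => Nat.pos_of_ne_zero index_ne_zero_of_finite
  have hne1 : ∀ g : G, g ∉ center G → idx g ≠ 1 := fun g hg h1 => hg (mem_center_iff.mpr fun k =>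
    ((mem_cen.mp ((eq_top_iff' _).mp (index_eq_one.mp h1) k)) : g * k = k * g).symm)
  -- a multiple of `n` among the class sizes
  have heqn : ∀ g : G, n ∣ idx g → idx g = n := by
    intro g hg
    rcases S.split g with h | h
    · exact le_antisymm h (Nat.le_of_dvd (hpos g) hg)
    · exact absurd (h ▸ hg) hnm
  have heqm : ∀ g : G, m ∣ idx g → idx g = m := fun g hg =>
    le_antisymm (S.le_m g) (Nat.le_of_dvd (hpos g) hg)
  -- Lemma B
  have lemB : ∀ w : G, (idx w).Coprime n → w ∉ center G → idx w = m := by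
    intro w hw hwc
    set s := idx (a * w) with hs
    have hcop : (idx a).Coprime (idx w) := by rw [hia]; exact hw.symm
    have hdiv : s ∣ n * idx w := by
      rw [← hia, ← index_inf_of_coprime hcop]
      exact index_dvd_of_le fun g hg => mem_cen.mpr
        ((show Commute a g from mem_cen.mp hg.1).mul_left (show Commute w g from mem_cen.mp hg.2))
    rcases S.split (a * w) with hle | heq
    · exfalso
      have hsub : (fun k => k * w) '' {k | IsConj a k} = {k | IsConj (a * w) k} := by
        refine Set.eq_of_subset_of_ncard_le ?_ ?_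
        · rintro _ ⟨k, hk, rfl⟩
          exact isConj_mul hcop hk (IsConj.refl w)
        · rw [Set.ncard_image_of_injective _ (mul_left_injective w), ncard_class, ncard_class, hia]
          exact hle
      apply hwc
      rw [mem_center_iff]
      intro g
      set w' := g * w * g⁻¹ with hw'
      have hwconj : IsConj w w' := isConj_iff.mpr ⟨g, rfl⟩
      -- `w' = l * w` with `l ∈ A`
      obtain ⟨a₁, ha₁, ha₁w⟩ : a * w' ∈ (fun k => k * w) '' {k | IsConj a k} := by
        rw [hsub]; exact isConj_mul hcop (IsConj.refl a) hwconj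
      set l := w' * w⁻¹ with hl
      have hlA : l ∈ A := by
        have : a₁ ∈ A := by
          obtain ⟨c, rfl⟩ := isConj_iff.mp ha₁
          exact hAn.conj_mem a haA c
        rw [show l = a⁻¹ * a₁ by
          rw [hl, eq_inv_mul_iff_mul_eq, ← mul_assoc, mul_inv_eq_iff_eq_mul]; exact ha₁w.symm]
        exact A.mul_mem (A.inv_mem haA) this
      have hstab : ∀ t ∈ {k | IsConj a k}, ∀ c ∈ zpowers l, t * c ∈ {k | IsConj a k} := by
        have hone : ∀ t ∈ {k | IsConj a k}, t * l ∈ {k | IsConj a k} := by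
          intro t ht
          have : t * w' ∈ (fun k => k * w) '' {k | IsConj a k} := by
            rw [hsub]; exact isConj_mul hcop ht hwconj
          obtain ⟨t', ht', he⟩ := this
          rwa [show t * l = t' by rw [hl, ← mul_assoc, ← he, mul_inv_cancel_right]]
        intro t ht c hc
        obtain ⟨j, hj⟩ := (isOfFinOrder_of_finite l).mem_powers_iff_mem_zpowers.mpr hc
        change l ^ j = c at hj
        subst hj
        clear hc
        induction j generalizing t with
        | zero => simpa using ht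
        | succ j ih => rw [pow_succ', ← mul_assoc]; exact ih _ (hone t ht)
      have h1 := card_dvd_of_mul_mem (zpowers l) _ hstab
      rw [ncard_class, hia, Nat.card_zpowers] at h1
      have h2 : l = 1 := orderOf_eq_one_iff.mp (Nat.eq_one_of_dvd_coprimes S.hcop (hordA l hlA) h1)
      rw [hl, mul_inv_eq_one, hw', mul_inv_eq_iff_eq_mul] at h2
      exact h2
    · exact heqm w (S.hcop.dvd_of_dvd_mul_left (heq ▸ hdiv))
  -- elements of `X` of order prime to `m`
  have lemC : ∀ (p : ℕ) (w : G), p.Prime → p ∣ n → IsPEl p w → w ∈ X → w ∈ center G := by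
    intro p w hp hpn hw hwX
    have hpm : ¬ p ∣ m := fun h => hp.ne_one (Nat.eq_one_of_dvd_coprimes S.hcop h hpn)
    have hwm := exists_pel_order hp hw hpm
    have hcw : Commute a w := mem_cen.mp ((hax' w).mp hwX)
    have hoc : (orderOf a).Coprime (orderOf w) :=
      (hwm.symm.coprime_dvd_left (hordA a haA))
    have he : cen (a * w) = X ⊓ cen w := (cen_mul_eq hcw hoc).trans (by rw [show centralizer {a} = X from hax])
    have hle : cen (a * w) ≤ X := he.le.trans inf_le_left
    have h1 : idx (a * w) = n := heqn _ (hXi ▸ index_dvd_of_le hle)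
    have h2 : X ≤ cen w := by
      have : cen (a * w) = X := eq_of_le_of_index_le' hle (by rw [hXi]; exact h1.le)
      rw [← this, he]; exact inf_le_right
    exact central_of_coprime S hy hwm
      (S.hcop.symm.coprime_dvd_left (hXi ▸ index_dvd_of_le h2))
  -- Lemma E
  have lemE : ∀ (p : ℕ) (g : G), p.Prime → p ∣ n → IsPEl p g → g ∉ center G → idx g = m := by
    intro p g hp hpn hg hgc
    have hpm : ¬ p ∣ m := fun h => hp.ne_one (Nat.eq_one_of_dvd_coprimes S.hcop h hpn)
    have hgm := exists_pel_order hp hg hpm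
    let f : A →* A := MonoidHom.mk' (fun u => ⟨g * u * g⁻¹, hAn.conj_mem _ u.2 g⟩)
      (fun u v => Subtype.ext (by simp [mul_assoc]))
    have hfpow : ∀ (i : ℕ) (u : A), ((f^[i] u : A) : G) = g ^ i * u * (g ^ i)⁻¹ := by
      intro i
      induction i with
      | zero => intro u; simp
      | succ i ih =>
        intro u
        rw [Function.iterate_succ_apply']
        show g * ((f^[i] u : A) : G) * g⁻¹ = _
        rw [ih, pow_succ']; group
    set N := orderOf g with hN
    open scoped IsMulCommutative in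
    let σ : A →* A := MonoidHom.mk' (fun u => ∏ i ∈ Finset.range N, f^[i] u) (fun u v => by
      simp only [iterate_map_mul, Finset.prod_mul_distrib])
    open scoped IsMulCommutative in
    have hσ : ∀ u : A, σ u = ∏ i ∈ Finset.range N, f^[i] u := fun u => rfl
    open scoped IsMulCommutative in
    have hσfix : ∀ u : A, f (σ u) = σ u := by
      intro u
      rw [hσ, map_prod]
      simp_rw [← Function.iterate_succ_apply' f]
      have h2 := Finset.prod_range_succ' (fun j => f^[j] u) N
      rw [Finset.prod_range_succ, show f^[N] u = f^[0] u from Subtype.ext (by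
        rw [hfpow, hfpow, hN, pow_orderOf_eq_one, pow_zero])] at h2
      exact (mul_right_cancel h2).symm
    open scoped IsMulCommutative in
    have hσC : ∀ u : A, (u : G) ∈ cen g → σ u = u ^ N := by
      intro u hu
      have hfu : ∀ i, f^[i] u = u := fun i => Function.iterate_fixed (Subtype.ext (by
        show g * (u : G) * g⁻¹ = u
        rw [mul_inv_eq_iff_eq_mul]; exact mem_cen.mp hu)) i
      rw [hσ, Finset.prod_congr rfl fun i _ => hfu i, Finset.prod_const, Finset.card_range]
    have hAN : (Nat.card A).Coprime N := (hgm.symm.coprime_dvd_left hAm)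
    let a' : A := ⟨a, haA⟩
    let a₀ : A := (powCoprime hAN).symm (σ a')
    have ha₀ : a₀ ^ N = σ a' := (powCoprime hAN).apply_symm_apply _
    have hfa₀ : f a₀ = a₀ := (powCoprime hAN).injective (by
      show f a₀ ^ N = a₀ ^ N
      rw [← map_pow, ha₀, hσfix])
    have hv : (a₀ : G) ∈ cen g := by
      have h1 := congrArg Subtype.val hfa₀
      exact mem_cen.mpr (mul_inv_eq_iff_eq_mul.mp h1)
    let m₀ : A := a₀⁻¹ * a'
    open scoped IsMulCommutative in
    have hm₀σ : σ m₀ = 1 := by
      rw [map_mul, map_inv, hσC a₀ hv, ha₀, inv_mul_cancel]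
    have hgX : g ∉ X := fun h => hgc (lemC p g hp hpn hg h)
    have hm₀ : m₀ ≠ 1 := by
      intro h
      have : a' = a₀ := (inv_mul_eq_one.mp h).symm
      exact hgX ((hax' g).mpr (mem_cen_comm.mp (show a ∈ cen g by
        rw [show a = (a₀ : G) from congrArg Subtype.val this]; exact hv)))
    -- the kernel of the norm map
    set M := (cen g).relIndex A with hM
    have hker : Nat.card σ.ker ≤ M := by
      have h1 : Nat.card ((cen g).subgroupOf A) ≤ Nat.card σ.range := by
        refine Nat.card_le_card_of_injective (fun u => ⟨σ u, u, rfl⟩) fun u v huv => ?_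
        have h2 : σ (u : A) = σ (v : A) := congrArg Subtype.val huv
        rw [hσC _ (mem_subgroupOf.mp u.2), hσC _ (mem_subgroupOf.mp v.2)] at h2
        exact Subtype.ext ((powCoprime hAN).injective h2)
      have h2 := σ.ker.card_mul_index
      rw [index_ker] at h2
      have h3 := ((cen g).subgroupOf A).index_mul_card
      refine Nat.le_of_mul_le_mul_right ?_ (Nat.card_pos (α := σ.range))
      rw [h2, ← h3]
      exact Nat.mul_le_mul_left _ h1
    -- the centraliser of `a₀ * g`
    set C := cen ((a₀ : G) * g) with hC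
    have hvg : Commute (a₀ : G) g := (mem_cen.mp hv).symm
    have hCeq : C = cen (a₀ : G) ⊓ cen g :=
      cen_mul_eq hvg (hgm.symm.coprime_dvd_left (hordA _ a₀.2))
    set J := C ⊓ cen (m₀ : G) with hJ
    have hJX : J ≤ X := by
      intro k hk
      rw [← hax, show (a : G) = (a₀ : G) * (m₀ : G) by
        show a = (a₀ : G) * ((a₀ : G)⁻¹ * a); group]
      rw [hJ, hCeq] at hk
      exact mem_cen.mpr ((show Commute (a₀ : G) k from mem_cen.mp hk.1.1).mul_left
        (show Commute (m₀ : G) k from mem_cen.mp hk.2))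
    have hk : J.relIndex C < M := by
      refine lt_of_lt_of_le ?_ hker
      have hmem : ∀ q : C ⧸ J.subgroupOf C,
          (⟨((q.out : C) : G) * m₀ * ((q.out : C) : G)⁻¹, hAn.conj_mem _ m₀.2 _⟩ : A) ∈ σ.ker := by
        intro q
        open scoped IsMulCommutative in
        rw [MonoidHom.mem_ker, hσ]
        let c : G := ((q.out : C) : G)
        let fc : A →* A := MonoidHom.mk' (fun u => ⟨c * u * c⁻¹, hAn.conj_mem _ u.2 c⟩)
          (fun u v => Subtype.ext (by simp [mul_assoc]))
        have hcg : Commute c g := by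
          have h : c ∈ cen (a₀ : G) ⊓ cen g := hCeq.le (q.out : C).2
          exact (mem_cen.mp h.2).symm
        open scoped IsMulCommutative in
        have h1 : ∀ i, f^[i] ⟨c * m₀ * c⁻¹, hAn.conj_mem _ m₀.2 _⟩ = fc (f^[i] m₀) := fun i => by
          apply Subtype.ext
          show _ = c * ((f^[i] m₀ : A) : G) * c⁻¹
          rw [hfpow, hfpow]
          show g ^ i * (c * (m₀ : G) * c⁻¹) * (g ^ i)⁻¹ = _
          calc g ^ i * (c * (m₀ : G) * c⁻¹) * (g ^ i)⁻¹
              = (g ^ i * c) * (m₀ : G) * (g ^ i * c)⁻¹ := by group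
            _ = _ := by rw [← (hcg.pow_right i).eq]; group
        open scoped IsMulCommutative in
        rw [Finset.prod_congr rfl fun i _ => h1 i, ← map_prod, ← hσ, hm₀σ, map_one]
      let F : C ⧸ J.subgroupOf C → σ.ker := fun q => ⟨_, hmem q⟩
      have hF : Function.Injective F := by
        intro q q' hqq
        have h1 : ((q.out : C) : G) * m₀ * ((q.out : C) : G)⁻¹ =
            ((q'.out : C) : G) * m₀ * ((q'.out : C) : G)⁻¹ := congrArg (fun z : σ.ker => ((z : A) : G)) hqq
        rw [← QuotientGroup.out_eq' q, ← QuotientGroup.out_eq' q', QuotientGroup.eq, mem_subgroupOf]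
        refine ⟨((q.out : C)⁻¹ * q'.out : C).2, mem_cen.mpr ?_⟩
        show (m₀ : G) * (((q.out : C) : G)⁻¹ * ((q'.out : C) : G)) =
          ((q.out : C) : G)⁻¹ * ((q'.out : C) : G) * m₀
        calc (m₀ : G) * (((q.out : C) : G)⁻¹ * ((q'.out : C) : G))
            = ((q.out : C) : G)⁻¹ * (((q.out : C) : G) * m₀ * ((q.out : C) : G)⁻¹) *
              ((q'.out : C) : G) := by group
          _ = _ := by rw [h1]; group
      have hnot : (1 : σ.ker) ∉ Set.range F := by
        rintro ⟨q, hq⟩
        apply hm₀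
        have h1 : ((q.out : C) : G) * m₀ * ((q.out : C) : G)⁻¹ = 1 := congrArg (fun z : σ.ker => ((z : A) : G)) hq
        exact Subtype.ext (by rw [OneMemClass.coe_one]; exact conj_eq_one_iff.mp h1)
      have := Set.ncard_lt_card (fun h : Set.range F = Set.univ => hnot (h ▸ Set.mem_univ _))
      rwa [← Nat.card_coe_set_eq, Nat.card_range_of_injective hF, ← index_eq_card] at this
    have hnJ : n ∣ J.relIndex C * C.index := by
      rw [relIndex_mul_index inf_le_left, ← hXi]; exact index_dvd_of_le hJX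
    have hMC : M ∣ C.index := by
      have h1 : C.relIndex A = M := by
        rw [hM, ← inf_relIndex_right C A, ← inf_relIndex_right (cen g) A, hCeq]
        congr 1
        refine le_antisymm (inf_le_inf_right _ inf_le_right) (fun k hk => ⟨⟨mem_cen.mpr ?_, hk.1⟩, hk.2⟩)
        exact congrArg Subtype.val (mul_comm' a₀ (⟨k, hk.2⟩ : A))
      exact h1 ▸ relIndex_dvd_index_of_normal' C A
    have hidx : C.index = m := by
      rcases S.split ((a₀ : G) * g) with hle | heq
      · exfalso
        obtain ⟨e', he'⟩ := hMC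
        have hMn : (M).Coprime n := S.hcop.coprime_dvd_left ((index_dvd_card _).trans hAm)
        rw [he', ← mul_assoc, mul_comm (J.relIndex C), mul_assoc] at hnJ
        have h1 : n ∣ J.relIndex C * e' := hMn.symm.dvd_of_dvd_mul_left hnJ
        have hpos' := hpos ((a₀ : G) * g)
        change 0 < C.index at hpos'
        change C.index ≤ n at hle
        have he0 : 0 < e' := Nat.pos_of_mul_pos_left (he' ▸ hpos')
        have hk0 : 0 < J.relIndex C := Nat.pos_of_ne_zero index_ne_zero_of_finite
        have h2 := Nat.le_of_dvd (Nat.mul_pos hk0 he0) h1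
        have h3 := Nat.mul_lt_mul_of_pos_right hk he0
        omega
      · exact heq
    refine lemB g (S.hcop.coprime_dvd_left (hidx ▸ index_dvd_of_le ?_)) hgc
    rw [hCeq]; exact inf_le_right
  -- Lemma F
  have lemF : ∀ (r : ℕ) (w : G), r.Prime → IsPEl r w → w ∈ X → w ∉ center G →
      ¬ r ∣ n ∧ idx w = n := by
    intro r w hr hw hwX hwc
    have hrn : ¬ r ∣ n := fun h => hwc (lemC r w hr h hw hwX)
    refine ⟨hrn, heqn w ?_⟩
    set H := cen w with hH
    have hall : ∀ (p : ℕ) (g : G), p.Prime → p ∣ n → IsPEl p g → g ∈ H → g ∈ center G := by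
      intro p g hp hpn hg hgH
      by_contra hgc
      have hgi := lemE p g hp hpn hg hgc
      have hgw : Commute g w := (mem_cen.mp hgH).symm
      have he : cen (g * w) = cen g ⊓ cen w :=
        cen_mul_eq hgw (hg.coprime_orderOf hp hr (fun h => hrn (h ▸ hpn)) hw)
      have hle : cen (g * w) ≤ cen g := he.le.trans inf_le_left
      have heq' : idx (g * w) = m := heqm _ (hgi ▸ index_dvd_of_le hle)
      have hle' : cen g ≤ cen w := by
        have : cen (g * w) = cen g := eq_of_le_of_index_le' hle (by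
          show (cen g).index ≥ _; exact (hgi ▸ heq'.le : idx (g * w) ≤ idx g))
        rw [← this, he]; exact inf_le_right
      have hwm := lemB w (S.hcop.coprime_dvd_left (hgi ▸ index_dvd_of_le hle')) hwc
      have : cen g = cen w := eq_of_le_of_index_le' hle' (by
        show (cen w).index ≥ _; exact (hgi.trans hwm.symm).le)
      refine hgc (lemC p g hp hpn hg ?_)
      rw [← hax]
      exact mem_cen_comm.mp (this.ge (mem_cen_comm.mp ((hax' w).mp hwX)))
    set J := H ⊓ X with hJ
    have h1 : n ∣ J.relIndex H * H.index := by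
      rw [relIndex_mul_index inf_le_left, ← hXi]; exact index_dvd_of_le inf_le_right
    refine Nat.Coprime.dvd_of_dvd_mul_left ?_ h1
    refine Nat.coprime_of_dvd' fun p hp hpn hpJ => absurd hpJ ?_
    haveI := Fact.mk hp
    obtain ⟨P⟩ : Nonempty (Sylow p H) := inferInstance
    refine not_dvd_of_sylow_le P fun k hk => mem_subgroupOf.mpr ⟨k.2, ?_⟩
    exact hcX (hall p k hp hpn (isPEl_of_mem (P.isPGroup'.map H.subtype) ⟨k, hk, rfl⟩) k.2)
  -- `X` is abelian
  have hcen_n : ∀ u : G, idx u = n → X ≤ cen u → cen u = X := fun u hu hle =>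
    (eq_of_le_of_index_le' hle (by rw [hXi]; exact hu.ge)).symm
  have hcomm2 : ∀ (r : ℕ) (u : G), r.Prime → IsPEl r u → u ∈ X → u ∉ center G →
      ∀ (r' : ℕ) (w : G), r'.Prime → IsPEl r' w → w ∈ X → w ∉ center G → Commute u w := by
    intro r u hr hu huX huc r' w hr' hw hwX hwc
    obtain ⟨hrn, hun⟩ := lemF r u hr hu huX huc
    obtain ⟨-, hwn⟩ := lemF r' w hr' hw hwX hwc
    obtain ⟨-, -, -, l, hl, z, hz, hzl, -⟩ := hA u (by rw [hun]; exact S.hcop.symm)
    obtain ⟨hAw, -⟩ := hA w (by rw [hwn]; exact S.hcop.symm)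
    rw [hun] at hzl
    obtain ⟨j, hj⟩ := exists_pow_eq_self_of_coprime (x := u) (exists_pel_order hr hu hrn).symm
    rw [← hj, hzl]
    have h1 : Commute z w := (mem_center_iff.mp hz w).symm
    have h2 : Commute l w := (mem_cen.mp (hAw hl)).symm
    exact (h1.mul_left h2).pow_left j
  have hXab : ∀ u ∈ X, ∀ w ∈ X, Commute u w := by
    have key : ∀ (r : ℕ) (u : G), r.Prime → IsPEl r u → u ∈ X → X ≤ cen u := by
      intro r u hr hu huX w hwX
      by_contra hwu
      obtain ⟨r', w', hr', hw'z, hw'u, hw'⟩ := exists_primary_notMem hwu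
      refine hw'u ?_
      by_cases huc : u ∈ center G
      · exact mem_cen.mpr (mem_center_iff.mp huc w').symm
      by_cases hwc : w' ∈ center G
      · exact center_le_cen u hwc
      exact mem_cen.mpr (hcomm2 r u hr hu huX huc r' w' hr' hw' (mem_of_mem_zpowers hw'z hwX) hwc)
    intro u huX w hwX
    suffices X ≤ cen w from (mem_cen.mp (this huX)).symm
    intro v hvX
    rw [mem_cen_comm]
    by_contra hwv
    obtain ⟨r', w', hr', hw'z, hw'u, hw'⟩ := exists_primary_notMem hwv
    exact hw'u (mem_cen_comm.mp (key r' w' hr' hw' (mem_of_mem_zpowers hw'z hwX) hvX))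
  haveI hXn : X.Normal := by
    refine ⟨fun k hk g => ?_⟩
    have ha' : g * a * g⁻¹ ∈ X := by
      rw [← hax]
      exact (hA x hxm).1 |> fun _ => mem_cen.mpr
        (congrArg Subtype.val (mul_comm' (⟨a, haA⟩ : A) ⟨_, hAn.conj_mem a haA g⟩))
    have hle : X ≤ cen (g * a * g⁻¹) := fun v hv => mem_cen.mpr (hXab _ ha' v hv)
    have hi : idx (g * a * g⁻¹) = n := by
      rw [← ncard_class, show {k : G | IsConj (g * a * g⁻¹) k} = {k | IsConj a k} from Set.ext fun k =>
        ⟨fun h => IsConj.trans (isConj_iff.mpr ⟨g, rfl⟩) h,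
          fun h => IsConj.trans (isConj_iff.mpr ⟨g⁻¹, by group⟩) h⟩, ncard_class, hia]
    rw [← hcen_n _ hi hle]
    refine mem_cen_conj.mpr ?_
    rw [show g⁻¹ * (g * k * g⁻¹) * g = k by group]
    exact (hax' k).mp hk
  -- elements of order prime to `n` lie in `X`
  have hmemX : ∀ (r : ℕ) (w : G), r.Prime → IsPEl r w → ¬ r ∣ n → w ∈ X := fun r w hr hw hrn =>
    mem_of_coprime_index (hXi.symm ▸ exists_pel_order hr hw hrn)
  -- Lemma G
  have lemG : ∀ (p : ℕ) (g : G), p.Prime → p ∣ n → IsPEl p g → g ∉ center G →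
      X ⊓ cen g ≤ center G := by
    intro p g hp hpn hg hgc w hw
    by_contra hwc
    obtain ⟨r, w', hr, hw'z, hw'c, hw'⟩ := exists_primary_notMem hwc
    have hw'X := mem_of_mem_zpowers hw'z hw.1
    obtain ⟨-, hi⟩ := lemF r w' hr hw' hw'X hw'c
    have := hcen_n w' hi fun v hv => mem_cen.mpr (hXab w' hw'X v hv)
    exact hgc (lemC p g hp hpn hg (this ▸ mem_cen_comm.mp (mem_of_mem_zpowers hw'z hw.2)))
  -- Lemma H
  have lemH : ∀ (p : ℕ) (u k z : G), p.Prime → p ∣ n → IsPEl p u → k ∈ X → z ∈ center G →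
      k * u * k⁻¹ = u * z → z = 1 := by
    intro p u k z hp hpn hu hk hz he
    have hzu : Commute u z := mem_center_iff.mp hz u
    obtain ⟨j, hj⟩ := hu
    have h1 : z ^ p ^ j = 1 := by
      have : (k * u * k⁻¹) ^ p ^ j = 1 := by rw [conj_pow, hj, mul_one, mul_inv_cancel]
      rw [he, hzu.mul_pow, hj, one_mul] at this
      exact this
    -- the order of `z` divides that of a `p'`-part of `k`
    by_contra hz1
    have hkp : ∃ s ∈ X, (orderOf s).Coprime p ∧ s * u * s⁻¹ = k * u * k⁻¹ := by
      obtain ⟨v, s, hv, hs, hks, hvp, hscop⟩ := Lib.Elem70.exists_primary_split hp k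
      have hvX := mem_of_mem_zpowers hv hk
      have hvc : v ∈ center G := lemC p v hp hpn hvp hvX
      refine ⟨s, mem_of_mem_zpowers hs hk, hscop, ?_⟩
      rw [hks, mul_inv_rev]
      have h2 : ∀ t, v * t * v⁻¹ = t := fun t => by
        rw [← mem_center_iff.mp hvc t, mul_inv_cancel_right]
      calc s * u * s⁻¹ = v * (s * u * s⁻¹) * v⁻¹ := (h2 _).symm
        _ = _ := by group
    obtain ⟨s, -, hscop, hsk⟩ := hkp
    rw [he] at hsk
    have hiter : ∀ i : ℕ, s ^ i * u * (s ^ i)⁻¹ = u * z ^ i := by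
      intro i
      induction i with
      | zero => simp
      | succ i ih =>
        rw [pow_succ' s, show s * s ^ i * u * (s * s ^ i)⁻¹ = s * (s ^ i * u * (s ^ i)⁻¹) * s⁻¹ by group,
          ih, show s * (u * z ^ i) * s⁻¹ = s * u * s⁻¹ * (s * z ^ i * s⁻¹) by group, hsk,
          show s * z ^ i * s⁻¹ = z ^ i by
            rw [mem_center_iff.mp (pow_mem hz i) s, mul_inv_cancel_right], pow_succ' z, mul_assoc]
    have h2 := hiter (orderOf s)
    rw [pow_orderOf_eq_one, one_mul, inv_one, mul_one, left_eq_mul] at h2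
    have h3 := Nat.dvd_gcd (orderOf_dvd_of_pow_eq_one h1) (orderOf_dvd_of_pow_eq_one h2)
    rw [(hscop.symm.pow_left j).gcd_eq_one] at h3
    exact hz1 (orderOf_eq_one_iff.mp (Nat.dvd_one.mp h3))
  -- the complement
  have hyX : y ∉ X := fun h => hmn' (hy ▸ hXi ▸ index_dvd_of_le
    (fun v hv => mem_cen.mpr (hXab y h v hv)))
  obtain ⟨p, g, hp, hgy, hgX, hg⟩ := exists_primary_notMem hyX
  have hpn : p ∣ n := by by_contra h; exact hgX (hmemX p g hp hg h)
  have hgc : g ∉ center G := fun h => hgX (hcX h)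
  set Y := cen y with hYdef
  have hYi : Y.index = m := hy
  have hYg : Y = cen g := eq_of_le_of_index_le' (cen_le_of_mem_zpowers hgy) (by
    show (cen g).index ≥ _; exact (hy.trans (lemE p g hp hpn hg hgc).symm).le)
  have hXY : X ⊓ Y ≤ center G := hYg ▸ lemG p g hp hpn hg hgc
  have hprod : ∀ k : G, ∃ c ∈ Y, ∃ v ∈ X, k = c * v := fun k =>
    exists_mul_of_coprime_index (by rw [hXi, hYi]; exact S.hcop) k
  have hYab : ∀ u ∈ Y, ∀ h ∈ Y, Commute u h := by
    have key : ∀ (r : ℕ) (u : G), r.Prime → IsPEl r u → u ∈ Y → Y ≤ cen u := by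
      intro r u hr hu huY h hhY
      by_cases huc : u ∈ center G
      · exact mem_cen.mpr (mem_center_iff.mp huc h).symm
      have hrn : r ∣ n := by
        by_contra hrn
        exact huc (hXY ⟨hmemX r u hr hu hrn, huY⟩)
      have hui := lemE r u hr hrn hu huc
      obtain ⟨c, hc, v, hv, hcv⟩ := exists_mul_of_coprime_index
        (show (cen u).index.Coprime X.index by rw [hXi]; exact (hui ▸ S.hcop : (idx u).Coprime n)) h
      set z := u⁻¹ * (h * u * h⁻¹) with hz
      have hzY : z ∈ Y := Y.mul_mem (Y.inv_mem huY) (Y.mul_mem (Y.mul_mem hhY huY) (Y.inv_mem hhY))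
      have hzX : z ∈ X := by
        rw [← QuotientGroup.eq_one_iff, hz, hcv]
        have hcu : Commute c u := (mem_cen.mp hc).symm
        simp only [QuotientGroup.mk_mul, QuotientGroup.mk_inv, (QuotientGroup.eq_one_iff v).mpr hv,
          mul_one]
        rw [← QuotientGroup.mk_mul, hcu.eq, QuotientGroup.mk_mul, mul_inv_cancel_right, inv_mul_cancel]
      have hzc : z ∈ center G := hXY ⟨hzX, hzY⟩
      have hhu : h * u * h⁻¹ = u * z := by rw [hz, mul_inv_cancel_left]
      have hv' : v * u * v⁻¹ = u * z := by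
        rw [hcv] at hhu
        have hcu : c⁻¹ * u * c = u := by rw [mul_assoc, mem_cen.mp hc, inv_mul_cancel_left]
        calc v * u * v⁻¹ = c⁻¹ * (c * v * u * (c * v)⁻¹) * c := by group
          _ = c⁻¹ * (u * z) * c := by rw [hhu]
          _ = c⁻¹ * u * c * (c⁻¹ * z * c) := by group
          _ = _ := by rw [hcu, mul_assoc c⁻¹, ← mem_center_iff.mp hzc c, inv_mul_cancel_left]
      have hz1 := lemH r u v z hr hrn hu hv hzc hv'
      rw [hz1, mul_one, mul_inv_eq_iff_eq_mul] at hhu
      exact mem_cen.mpr hhu.symm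
    intro u huY h hhY
    by_contra hne
    obtain ⟨r, u', hr, hu'z, hu'h, hu'⟩ := exists_primary_notMem
      (show u ∉ cen h from fun hc => hne (mem_cen.mp hc).symm)
    exact hu'h (mem_cen_comm.mp (key r u' hr hu' (mem_of_mem_zpowers hu'z huY) hhY))
  -- the Frobenius property
  have hTI : ∀ k : G, ∀ u ∈ Y, u ∉ center G → k⁻¹ * u * k ∈ Y → k ∈ Y := by
    intro k u huY huc hku
    obtain ⟨r, u', hr, hu'z, hu'c, hu'⟩ := exists_primary_notMem huc
    have hu'Y := mem_of_mem_zpowers hu'z huY
    have hrn : r ∣ n := by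
      by_contra hrn
      exact hu'c (hXY ⟨hmemX r u' hr hu' hrn, hu'Y⟩)
    have hi := lemE r u' hr hrn hu' hu'c
    have hcu' : cen u' = Y := (eq_of_le_of_index_le' (fun v hv => mem_cen.mpr (hYab u' hu'Y v hv))
      (by show (cen u').index ≥ _; rw [hYi]; exact hi.ge)).symm
    have hku' : k⁻¹ * u' * k ∈ Y := by
      obtain ⟨i, rfl⟩ := mem_zpowers_iff.mp hu'z
      have := Y.zpow_mem hku i
      rwa [show k⁻¹ * u * k = k⁻¹ * u * k⁻¹⁻¹ by group, conj_zpow, inv_inv] at this
    -- `k` normalises `Y`, so its `X`-part does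
    have hconj : ∀ v : G, k⁻¹ * v * k ∈ Y → v ∈ Y := by
      intro v hv
      rw [← hcu', mem_cen]
      have h1 := hYab _ hku' _ hv
      calc u' * v = k * ((k⁻¹ * u' * k) * (k⁻¹ * v * k)) * k⁻¹ := by group
        _ = k * ((k⁻¹ * v * k) * (k⁻¹ * u' * k)) * k⁻¹ := by rw [h1.eq]
        _ = _ := by group
    obtain ⟨c, hc, v, hv, rfl⟩ := hprod k
    refine Y.mul_mem hc ?_
    -- `v g v⁻¹ ∈ Y`
    have hgY : g ∈ Y := hYg.symm ▸ self_mem_cen g
    have hvg : v * g * v⁻¹ ∈ Y := by
      have := hconj (c * v * g * (c * v)⁻¹) (by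
        rw [show (c * v)⁻¹ * (c * v * g * (c * v)⁻¹) * (c * v) = g by group]; exact hgY)
      have h2 := Y.mul_mem (Y.mul_mem (Y.inv_mem hc) this) hc
      rwa [show c⁻¹ * (c * v * g * (c * v)⁻¹) * c = v * g * v⁻¹ by group] at h2
    set z := g⁻¹ * (v * g * v⁻¹) with hz
    have hzc : z ∈ center G := hXY ⟨by
      rw [hz, show g⁻¹ * (v * g * v⁻¹) = (g⁻¹ * v * g) * v⁻¹ by group]
      exact X.mul_mem (by simpa using hXn.conj_mem v hv g⁻¹) (X.inv_mem hv),
      Y.mul_mem (Y.inv_mem hgY) hvg⟩
    have hz1 := lemH p g v z hp hpn hg hv hzc (by rw [hz, mul_inv_cancel_left])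
    rw [hz, inv_mul_eq_one, eq_mul_inv_iff_mul_eq] at hz1
    rw [hYg]
    exact mem_cen.mpr hz1
  refine ⟨⟨⟨fun u w => Subtype.ext (hXab u u.2 w w.2)⟩⟩,
    ⟨⟨fun u w => Subtype.ext (hYab u u.2 w w.2)⟩⟩, ?_⟩
  set π := QuotientGroup.mk' (center G) with hπ
  have hkerY : (Y.map π).comap π = Y := by
    rw [comap_map_eq, QuotientGroup.ker_mk', sup_eq_left]; exact center_le_cen y
  have hF : Cfsg.IsFrobeniusComplement (Y.map π) := by
    refine ⟨fun h => ?_, fun h => ?_, fun q hq => ?_⟩
    · rw [Subgroup.map_eq_bot_iff, QuotientGroup.ker_mk'] at h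
      exact hgc (h (hYg.symm ▸ self_mem_cen g))
    · replace h := congrArg (Subgroup.comap π) h
      rw [hkerY, comap_top] at h
      exact hyX (absurd (hYi.symm.trans (h ▸ index_top)) (by omega))
    · obtain ⟨k, rfl⟩ := QuotientGroup.mk'_surjective _ q
      rw [eq_bot_iff]
      rintro _ ⟨⟨u, hu, rfl⟩, hu'⟩
      rw [mem_bot]
      by_contra hu1
      have huc : u ∉ center G := fun h => hu1 ((QuotientGroup.eq_one_iff u).mpr h)
      apply hq
      refine mem_map_of_mem π (hTI k u hu huc ?_)
      have hu'' : π u ∈ MulAut.conj (π k) • Y.map π := hu'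
      rw [mem_pointwise_smul_iff_inv_smul_mem] at hu''
      have h1 : π (k⁻¹ * u * k) ∈ Y.map π := by
        simpa [map_mul, map_inv] using hu''
      rw [← hkerY]
      exact h1
  refine ⟨hF, ?_⟩
  refine (Lib.Frobenius.coe_eq_frobeniusKernel hF (hXn.map π (QuotientGroup.mk'_surjective _)) ?_).symm
  refine isComplement'_of_disjoint_and_mul_eq_univ ?_ ?_
  · rw [disjoint_iff, eq_bot_iff]
    rintro _ ⟨⟨u, hu, rfl⟩, hu'⟩
    exact mem_bot.mpr ((QuotientGroup.eq_one_iff u).mpr (hXY ⟨hu, hkerY ▸ hu'⟩))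
  · refine Set.eq_univ_of_forall fun q => ?_
    obtain ⟨k, rfl⟩ := QuotientGroup.mk'_surjective _ q
    obtain ⟨b, hb, c, hc, rfl⟩ := exists_mul_of_coprime_index
      (show X.index.Coprime Y.index by rw [hXi, hYi]; exact S.hcop.symm) k
    exact ⟨π b, mem_map_of_mem π hb, π c, mem_map_of_mem π hc, (map_mul π b c).symm⟩

end Cfsg.Agent.Lib.TwoLargest
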